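import Mathlib
import Groth.Prelude.Def_DCoh3
import Groth.Agent.Lib.Helper5.TildePC.FromApprox
import Groth.Agent.Lib.Helper5.Misc.DerFaithful
import Groth.Agent.Lib.Helper5.Perf.LocNull
import Groth.Agent.Lib.Helper5.QC.SpecMain
import Groth.Agent.Lib.Helper5.Perf.HomVanish

/-!
# Bounded above complexes of finite locally free modules on an affine scheme are
"K-projective relative to quasi-coherent complexes" (helper5)
-/

set_option autoImplicit false
universe u
open CategoryTheory CategoryTheory.Limits AlgebraicGeometry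

attribute [local instance] HasDerivedCategory.standard

namespace Groth.Agent.Lib.Helper5.AffKProj

section Transfer

universe v₁ v₂ u₁ u₂

variable {A : Type u₁} [Category.{v₁} A] [Abelian A]
  {B : Type u₂} [Category.{v₂} B] [Abelian B]

/-- the property, for a pair of objects of the homotopy category, that maps in the homotopy
category and in the derived category agree -/
def QhBij (x y : HomotopyCategory A (ComplexShape.up ℤ)) : Prop :=
  Function.Bijective (fun φ : x ⟶ y => (DerivedCategory.Qh (C := A)).map φ)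

theorem QhBij.of_iso {x y x' y' : HomotopyCategory A (ComplexShape.up ℤ)} (a : x ≅ x')
    (b : y ≅ y') (h : QhBij x y) : QhBij x' y' := by
  let cK : (x' ⟶ y') ≃ (x ⟶ y) := (Iso.homCongr a b).symm
  let cD : (DerivedCategory.Qh.obj x ⟶ DerivedCategory.Qh.obj y) ≃
      (DerivedCategory.Qh.obj x' ⟶ DerivedCategory.Qh.obj y') :=
    Iso.homCongr (DerivedCategory.Qh.mapIso a) (DerivedCategory.Qh.mapIso b)
  have hcomp : (fun φ : x' ⟶ y' => (DerivedCategory.Qh (C := A)).map φ) =
      cD ∘ (fun φ : x ⟶ y => (DerivedCategory.Qh (C := A)).map φ) ∘ cK := by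
    funext φ
    simp [cK, cD, Iso.homCongr]
  unfold QhBij
  rw [hcomp]
  exact cD.bijective.comp (h.comp cK.bijective)

variable (Φ : A ⥤ B) [Φ.Additive] [PreservesFiniteLimits Φ] [PreservesFiniteColimits Φ]

/-- transfer along an exact functor which is fully faithful on homotopy and derived categories -/
theorem qhBij_map_iff [(Φ.mapHomotopyCategory (ComplexShape.up ℤ)).Full]
    [(Φ.mapHomotopyCategory (ComplexShape.up ℤ)).Faithful]
    [Φ.mapDerivedCategory.Full] [Φ.mapDerivedCategory.Faithful]
    (x y : HomotopyCategory A (ComplexShape.up ℤ)) :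
    QhBij ((Φ.mapHomotopyCategory (ComplexShape.up ℤ)).obj x)
      ((Φ.mapHomotopyCategory (ComplexShape.up ℤ)).obj y) ↔ QhBij x y := by
  let ΦK := Φ.mapHomotopyCategory (ComplexShape.up ℤ)
  let ΦD := Φ.mapDerivedCategory
  let α : ΦK ⋙ DerivedCategory.Qh ≅ DerivedCategory.Qh ⋙ ΦD :=
    Φ.mapDerivedCategoryFactorsh.symm
  let f1 : (x ⟶ y) → (ΦK.obj x ⟶ ΦK.obj y) := fun φ => ΦK.map φ
  have hf1 : Function.Bijective f1 :=
    (Functor.FullyFaithful.ofFullyFaithful ΦK).map_bijective x y
  let g2 : (DerivedCategory.Qh.obj x ⟶ DerivedCategory.Qh.obj y) →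
      (ΦD.obj (DerivedCategory.Qh.obj x) ⟶ ΦD.obj (DerivedCategory.Qh.obj y)) := fun ψ => ΦD.map ψ
  have hg2 : Function.Bijective g2 :=
    (Functor.FullyFaithful.ofFullyFaithful ΦD).map_bijective _ _
  let g3 : (ΦD.obj (DerivedCategory.Qh.obj x) ⟶ ΦD.obj (DerivedCategory.Qh.obj y)) ≃
      (DerivedCategory.Qh.obj (ΦK.obj x) ⟶ DerivedCategory.Qh.obj (ΦK.obj y)) :=
    (Iso.homCongr (α.app x) (α.app y)).symm
  have hcomm : (fun φ : ΦK.obj x ⟶ ΦK.obj y => (DerivedCategory.Qh (C := B)).map φ) ∘ f1 =
      (g3 ∘ g2) ∘ (fun φ : x ⟶ y => (DerivedCategory.Qh (C := A)).map φ) := by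
    funext φ
    have hn := α.hom.naturality φ
    simp only [Functor.comp_map] at hn
    simp only [Function.comp_apply, f1, g2, g3, Iso.homCongr_symm, Iso.homCongr_apply,
      Iso.symm_inv, Iso.symm_hom, Iso.app_hom, Iso.app_inv]
    rw [← reassoc_of% hn]
    simp
  unfold QhBij
  rw [← Function.Bijective.of_comp_iff _ hf1, hcomm,
    Function.Bijective.of_comp_iff' (g3.bijective.comp hg2)]

end Transfer

section Spec

open Groth.Agent.Lib.Helper5.TildePC Groth.Agent.Lib.Helper5.QC

variable (R : CommRingCat.{u})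

instance : (tilde.functor R).Full := (tilde.fullyFaithfulFunctor (R := R)).full
instance : (tilde.functor R).Faithful := (tilde.fullyFaithfulFunctor (R := R)).faithful

/-- the case of `Spec R` -/
theorem qhBij_spec (E F : CochainComplex (Spec (CommRingCat.of R)).Modules ℤ) (b : ℤ)
    (hEb : ∀ i : ℤ, b < i → IsZero (E.X i)) (hE : ∀ i : ℤ, FlatMod.IsFinLocFree (E.X i))
    (hF : ∀ i : ℤ, (F.X i).IsQuasicoherent) :
    QhBij ((HomotopyCategory.quotient _ (ComplexShape.up ℤ)).obj E)
      ((HomotopyCategory.quotient _ (ComplexShape.up ℤ)).obj F) := by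
  have hq : ∀ i : ℤ, (E.X i).IsQuasicoherent := fun i =>
    Groth.Agent.Lead.FLF.isQuasicoherent_of_isFinLocFree _ (hE i)
  let P : CochainComplex (ModuleCat.{u} R) ℤ := (ΓCx R).obj E
  let N : CochainComplex (ModuleCat.{u} R) ℤ := (ΓCx R).obj F
  haveI : P.IsStrictlyLE b := by
    rw [CochainComplex.isStrictlyLE_iff]
    intro i hi
    exact Functor.map_isZero (moduleSpecΓFunctor (R := R)) (hEb i hi)
  haveI : ∀ n : ℤ, Projective (P.X n) := fun n => by
    have h := (finite_projective_Γ_of_isFinLocFree R (E.X n) (hE n)).2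
    exact @ModuleCat.projective_of_categoryTheory_projective R _
      ((moduleSpecΓFunctor (R := R)).obj (E.X n)) h
  haveI : P.IsKProjective := CochainComplex.isKProjective_of_projective P b
  have h1 : QhBij ((HomotopyCategory.quotient _ (ComplexShape.up ℤ)).obj P)
      ((HomotopyCategory.quotient _ (ComplexShape.up ℤ)).obj N) :=
    CochainComplex.IsKProjective.Qh_map_bijective P _
  obtain ⟨hfull, hfaith, -⟩ := tildeD_main R
  haveI : (tilde.functor R).mapDerivedCategory.Full := hfull
  haveI : (tilde.functor R).mapDerivedCategory.Faithful := hfaith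
  have h2 := (qhBij_map_iff (tilde.functor R) _ _).2 h1
  exact h2.of_iso ((HomotopyCategory.quotient _ (ComplexShape.up ℤ)).mapIso (tΓIso R E hq))
    ((HomotopyCategory.quotient _ (ComplexShape.up ℤ)).mapIso (tΓIso R F hF))

end Spec

section Affine

open Groth.Agent.Lib.Helper5.DerFaithful

variable {X : Scheme.{u}} [IsAffine X]

/-- restriction along `Spec Γ(X, ⊤) ≅ X` followed by restriction along the inverse -/
noncomputable def resIso₁ : Scheme.Modules.restrictFunctor X.isoSpec.inv ⋙
    Scheme.Modules.restrictFunctor X.isoSpec.hom ≅ 𝟭 X.Modules :=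
  (Scheme.Modules.restrictFunctorComp X.isoSpec.hom X.isoSpec.inv).symm ≪≫
    Scheme.Modules.restrictFunctorCongr X.isoSpec.hom_inv_id ≪≫ Scheme.Modules.restrictFunctorId

/-- the other composite -/
noncomputable def resIso₂ : Scheme.Modules.restrictFunctor X.isoSpec.hom ⋙
    Scheme.Modules.restrictFunctor X.isoSpec.inv ≅ 𝟭 (Spec (CommRingCat.of Γ(X, ⊤))).Modules :=
  (Scheme.Modules.restrictFunctorComp X.isoSpec.inv X.isoSpec.hom).symm ≪≫
    Scheme.Modules.restrictFunctorCongr X.isoSpec.inv_hom_id ≪≫ Scheme.Modules.restrictFunctorId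

instance isEquivalence_res : (Scheme.Modules.restrictFunctor X.isoSpec.inv).IsEquivalence :=
  Functor.IsEquivalence.mk' (Scheme.Modules.restrictFunctor X.isoSpec.hom)
    (resIso₁ (X := X)).symm (resIso₂ (X := X))

instance isEquivalence_resD :
    (Scheme.Modules.restrictFunctor X.isoSpec.inv).mapDerivedCategory.IsEquivalence :=
  Functor.IsEquivalence.mk' (Scheme.Modules.restrictFunctor X.isoSpec.hom).mapDerivedCategory
    (mapDerivedCategoryCompIso _ _ (resIso₁ (X := X))).symm
    (mapDerivedCategoryCompIso _ _ (resIso₂ (X := X)))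

/-- **on an affine scheme, maps from a bounded above complex of finite locally free modules to a
complex of quasi-coherent modules are the same in the homotopy and the derived category** -/
theorem qhBij_affine (E F : CochainComplex X.Modules ℤ) (b : ℤ)
    (hEb : ∀ i : ℤ, b < i → IsZero (E.X i)) (hE : ∀ i : ℤ, FlatMod.IsFinLocFree (E.X i))
    (hF : ∀ i : ℤ, (F.X i).IsQuasicoherent) :
    QhBij ((HomotopyCategory.quotient _ (ComplexShape.up ℤ)).obj E)
      ((HomotopyCategory.quotient _ (ComplexShape.up ℤ)).obj F) := by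
  rw [← qhBij_map_iff (Scheme.Modules.restrictFunctor X.isoSpec.inv)]
  refine qhBij_spec Γ(X, ⊤)
    (((Scheme.Modules.restrictFunctor X.isoSpec.inv).mapHomologicalComplex _).obj E)
    (((Scheme.Modules.restrictFunctor X.isoSpec.inv).mapHomologicalComplex _).obj F) b
    (fun i hi => Functor.map_isZero (Scheme.Modules.restrictFunctor X.isoSpec.inv) (hEb i hi))
    (fun i => Groth.Agent.Lib.Helper5.LocNull.isFinLocFree_restrict _ _ (hE i)) (fun i => ?_)
  haveI := hF i
  exact inferInstanceAs ((Scheme.Modules.restrictFunctor X.isoSpec.inv).obj (F.X i)).IsQuasicoherent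

end Affine

end Groth.Agent.Lib.Helper5.AffKProj
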