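import Mathlib
import Groth.Prelude.Def_DCoh3
import Groth.Agent.Lib.Helper5.AffK.AffKProj
import Groth.Agent.Lib.Helper5.TorAmp.FlatAcyc

/-!
# Consequences of `qhBij_affine` (helper5)
-/

set_option autoImplicit false
universe u
open CategoryTheory CategoryTheory.Limits AlgebraicGeometry

attribute [local instance] HasDerivedCategory.standard

namespace Groth.Agent.Lib.Helper5.AffKProj

variable {X : Scheme.{u}} [IsAffine X]

/-- a map from a bounded above complex of finite locally free modules to a complex of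
quasi-coherent modules which vanishes in the derived category is null-homotopic -/
theorem homotopy_zero_of_Q_map_eq_zero (E F : CochainComplex X.Modules ℤ) (b : ℤ)
    (hEb : ∀ i : ℤ, b < i → IsZero (E.X i)) (hE : ∀ i : ℤ, FlatMod.IsFinLocFree (E.X i))
    (hF : ∀ i : ℤ, (F.X i).IsQuasicoherent) (f : E ⟶ F)
    (h : (DerivedCategory.Q (C := X.Modules)).map f = 0) : Nonempty (Homotopy f 0) := by
  have hb := qhBij_affine E F b hEb hE hF
  have h1 : (DerivedCategory.Qh (C := X.Modules)).map
      ((HomotopyCategory.quotient _ (ComplexShape.up ℤ)).map f) = 0 := by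
    have hn := (DerivedCategory.quotientCompQhIso X.Modules).hom.naturality f
    rw [h, comp_zero] at hn
    have h2 := congrArg (fun t => t ≫ (DerivedCategory.quotientCompQhIso X.Modules).inv.app F) hn
    simpa using h2
  have h3 : (HomotopyCategory.quotient _ (ComplexShape.up ℤ)).map f = 0 := by
    apply hb.1
    simp only [h1, Functor.map_zero]
  rw [← (HomotopyCategory.quotient _ (ComplexShape.up ℤ)).map_zero] at h3
  exact ⟨HomotopyCategory.homotopyOfEq _ _ h3⟩

/-- S14114 -/
theorem homotopy_zero_of_comp_quasiIso (E F G : CochainComplex X.Modules ℤ) (b : ℤ)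
    (hEb : ∀ i : ℤ, b < i → IsZero (E.X i)) (hE : ∀ i : ℤ, FlatMod.IsFinLocFree (E.X i))
    (hF : ∀ i : ℤ, (F.X i).IsQuasicoherent) (f : E ⟶ F) (g : F ⟶ G) [QuasiIso g]
    (hgf : Nonempty (Homotopy (f ≫ g) 0)) : Nonempty (Homotopy f 0) := by
  obtain ⟨H⟩ := hgf
  apply homotopy_zero_of_Q_map_eq_zero E F b hEb hE hF
  haveI : IsIso ((DerivedCategory.Q (C := X.Modules)).map g) :=
    (DerivedCategory.isIso_Q_map_iff_quasiIso _ g).2 inferInstance
  have h1 : (DerivedCategory.Q (C := X.Modules)).map (f ≫ g) = 0 := by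
    have h2 : (HomotopyCategory.quotient _ (ComplexShape.up ℤ)).map (f ≫ g) =
        (HomotopyCategory.quotient _ (ComplexShape.up ℤ)).map 0 :=
      HomotopyCategory.eq_of_homotopy _ _ H
    have h3 := congrArg (fun t => (DerivedCategory.Qh (C := X.Modules)).map t) h2
    simp only [Functor.map_zero] at h3
    have hn := (DerivedCategory.quotientCompQhIso X.Modules).hom.naturality (f ≫ g)
    simp only [Functor.comp_map] at hn
    rw [h3, zero_comp] at hn
    have h4 := congrArg (fun t => (DerivedCategory.quotientCompQhIso X.Modules).inv.app E ≫ t) hn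
    simpa using h4.symm
  rw [Functor.map_comp] at h1
  exact (cancel_mono ((DerivedCategory.Q (C := X.Modules)).map g)).1 (h1.trans zero_comp.symm)

/-- S14113 -/
theorem acyclic_iff_homotopy_id_zero (E : CochainComplex X.Modules ℤ) (b : ℤ)
    (hEb : ∀ i : ℤ, b < i → IsZero (E.X i)) (hE : ∀ i : ℤ, FlatMod.IsFinLocFree (E.X i)) :
    E.Acyclic ↔ Nonempty (Homotopy (𝟙 E) 0) := by
  have hq : ∀ i : ℤ, (E.X i).IsQuasicoherent := fun i =>
    Groth.Agent.Lead.FLF.isQuasicoherent_of_isFinLocFree _ (hE i)
  constructor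
  · intro h
    apply homotopy_zero_of_Q_map_eq_zero E E b hEb hE hq
    have hz : IsZero ((DerivedCategory.Q (C := X.Modules)).obj E) :=
      (Groth.Agent.Helper5.FlatAcyc.isZero_Q_iff_acyclic E).2 h
    exact hz.eq_of_src _ _
  · rintro ⟨H⟩ i
    rw [HomologicalComplex.exactAt_iff_isZero_homology, IsZero.iff_id_eq_zero]
    have h1 := H.homologyMap_eq i
    rw [HomologicalComplex.homologyMap_id, HomologicalComplex.homologyMap_zero] at h1
    exact h1

end Groth.Agent.Lib.Helper5.AffKProj
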